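import Mathlib
import Cfsg.Agent.Lib.GL.Simple

/-!
Generation of `SL_n(F)`: calculus of transvections `1 + v ⊗ φ` lying in a subgroup, and the key
lemma: a subgroup containing the lower Jordan block and the corner transvection `x_{1n}(1)`
contains all `x_{ij}(1)`.
-/

set_option autoImplicit false

namespace H64.SLGen

open Matrix

variable {F : Type*} [Field F] {ι : Type*} [Fintype ι] [DecidableEq ι]

theorem det_one_add_vecMulVec (v φ : ι → F) : (1 + vecMulVec v φ).det = 1 + φ ⬝ᵥ v := by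
  rw [vecMulVec_eq Unit, det_one_add_replicateCol_mul_replicateRow]

/-- The transvection `1 + v ⊗ φ`. -/
def tv (v φ : ι → F) (h : φ ⬝ᵥ v = 0) : SpecialLinearGroup ι F :=
  ⟨1 + vecMulVec v φ, by rw [det_one_add_vecMulVec, h, add_zero]⟩

theorem tv_coe (v φ : ι → F) (h : φ ⬝ᵥ v = 0) :
    (tv v φ h : Matrix ι ι F) = 1 + vecMulVec v φ := rfl

theorem vv_mul (u v w x : ι → F) :
    vecMulVec u v * vecMulVec w x = (v ⬝ᵥ w) • vecMulVec u x := by
  rw [vecMulVec_mul_vecMulVec, vecMulVec_smul]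

theorem vv_mulVec (u v w : ι → F) : vecMulVec u v *ᵥ w = (v ⬝ᵥ w) • u := by
  rw [vecMulVec_mulVec, op_smul_eq_smul]

theorem tv_mulVec (v φ : ι → F) (h : φ ⬝ᵥ v = 0) (w : ι → F) :
    (tv v φ h : Matrix ι ι F) *ᵥ w = w + (φ ⬝ᵥ w) • v := by
  rw [tv_coe, add_mulVec, one_mulVec, vv_mulVec]

theorem vecMul_tv (v φ : ι → F) (h : φ ⬝ᵥ v = 0) (ψ : ι → F) :
    ψ ᵥ* (tv v φ h : Matrix ι ι F) = ψ + (ψ ⬝ᵥ v) • φ := by
  rw [tv_coe, vecMul_add, vecMul_one, vecMul_vecMulVec]

theorem tv_inv (v φ : ι → F) (h : φ ⬝ᵥ v = 0) :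
    (tv v φ h)⁻¹ = tv (-v) φ (by rw [dotProduct_neg, h, neg_zero]) := by
  refine inv_eq_of_mul_eq_one_right (Subtype.ext ?_)
  simp only [Matrix.SpecialLinearGroup.coe_mul, tv_coe, mul_add, add_mul, mul_one, one_mul, vv_mul,
    neg_vecMulVec, mul_neg, h, zero_smul, Matrix.SpecialLinearGroup.coe_one]
  abel

/-- `1 + v ⊗ φ` is a transvection lying in `H`. -/
def Tr (H : Subgroup (SpecialLinearGroup ι F)) (v φ : ι → F) : Prop :=
  ∃ h : φ ⬝ᵥ v = 0, tv v φ h ∈ H

variable {H : Subgroup (SpecialLinearGroup ι F)} {v v' φ φ' : ι → F}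

theorem Tr.of_mem {g : SpecialLinearGroup ι F} (hg : g ∈ H) (h : φ ⬝ᵥ v = 0)
    (e : (g : Matrix ι ι F) = 1 + vecMulVec v φ) : Tr H v φ :=
  ⟨h, (show g = tv v φ h from Subtype.ext e) ▸ hg⟩

theorem Tr.dot (h : Tr H v φ) : φ ⬝ᵥ v = 0 := h.1

theorem Tr.mem (h : Tr H v φ) : tv v φ h.dot ∈ H := h.2

theorem Tr.zero_left (φ : ι → F) : Tr H 0 φ :=
  Tr.of_mem H.one_mem (by simp) (by ext; simp [vecMulVec_apply])

theorem coe_mul_inv (g : SpecialLinearGroup ι F) :
    (g : Matrix ι ι F) * ((g⁻¹ : SpecialLinearGroup ι F) : Matrix ι ι F) = 1 := by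
  rw [← Matrix.SpecialLinearGroup.coe_mul, mul_inv_cancel, Matrix.SpecialLinearGroup.coe_one]

theorem coe_inv_mul (g : SpecialLinearGroup ι F) :
    ((g⁻¹ : SpecialLinearGroup ι F) : Matrix ι ι F) * (g : Matrix ι ι F) = 1 := by
  rw [← Matrix.SpecialLinearGroup.coe_mul, inv_mul_cancel, Matrix.SpecialLinearGroup.coe_one]

theorem Tr.conj {g : SpecialLinearGroup ι F} (hg : g ∈ H) (h : Tr H v φ) :
    Tr H ((g : Matrix ι ι F) *ᵥ v) (φ ᵥ* ((g⁻¹ : SpecialLinearGroup ι F) : Matrix ι ι F)) := by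
  refine Tr.of_mem (H.mul_mem (H.mul_mem hg h.mem) (H.inv_mem hg)) ?_ ?_
  · rw [dotProduct_mulVec, vecMul_vecMul, coe_inv_mul, vecMul_one, h.dot]
  · rw [Matrix.SpecialLinearGroup.coe_mul, Matrix.SpecialLinearGroup.coe_mul, tv_coe, mul_add, mul_one, add_mul,
      coe_mul_inv, mul_vecMulVec, vecMulVec_mul]

theorem Tr.conj' {g : SpecialLinearGroup ι F} (hg : g ∈ H)
    (h : Tr H ((g : Matrix ι ι F) *ᵥ v) φ) : Tr H v (φ ᵥ* (g : Matrix ι ι F)) := by
  have := h.conj (H.inv_mem hg)
  rwa [mulVec_mulVec, coe_inv_mul, one_mulVec, inv_inv] at this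

theorem Tr.neg_left (h : Tr H v φ) : Tr H (-v) φ :=
  ⟨_, tv_inv v φ h.dot ▸ H.inv_mem h.mem⟩

theorem Tr.add_left (h : Tr H v φ) (h' : Tr H v' φ) : Tr H (v + v') φ := by
  refine Tr.of_mem (H.mul_mem h.mem h'.mem) (by rw [dotProduct_add, h.dot, h'.dot, add_zero]) ?_
  simp only [Matrix.SpecialLinearGroup.coe_mul, tv_coe, mul_add, add_mul, mul_one, one_mul, vv_mul,
    h'.dot, zero_smul, add_vecMulVec]
  abel

theorem Tr.sub_left (h : Tr H v φ) (h' : Tr H v' φ) : Tr H (v - v') φ := by
  rw [sub_eq_add_neg]; exact h.add_left h'.neg_left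

theorem Tr.add_right (h : Tr H v φ) (h' : Tr H v φ') : Tr H v (φ + φ') := by
  refine Tr.of_mem (H.mul_mem h.mem h'.mem) (by rw [add_dotProduct, h.dot, h'.dot, add_zero]) ?_
  simp only [Matrix.SpecialLinearGroup.coe_mul, tv_coe, mul_add, add_mul, mul_one, one_mul, vv_mul,
    h.dot, zero_smul, vecMulVec_add]
  abel

theorem tr_smul_iff (c : F) : Tr H (c • v) φ ↔ Tr H v (c • φ) := by
  constructor
  · intro h
    exact Tr.of_mem h.mem (by have := h.dot; simpa using this)
      (by rw [tv_coe, smul_vecMulVec, vecMulVec_smul])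
  · intro h
    exact Tr.of_mem h.mem (by have := h.dot; simpa using this)
      (by rw [tv_coe, smul_vecMulVec, vecMulVec_smul])

theorem Tr.neg_right (h : Tr H v φ) : Tr H v (-φ) := by
  have := h.neg_left
  rw [← neg_one_smul F v, tr_smul_iff, neg_one_smul] at this
  exact this

theorem Tr.sub_right (h : Tr H v φ) (h' : Tr H v φ') : Tr H v (φ - φ') := by
  rw [sub_eq_add_neg]; exact h.add_right h'.neg_right

theorem Tr.nsmul_left (h : Tr H v φ) (k : ℕ) : Tr H ((k : F) • v) φ := by
  induction k with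
  | zero => simpa using Tr.zero_left φ
  | succ k ih => rw [Nat.cast_succ, add_smul, one_smul]; exact ih.add_left h

theorem Tr.zsmul_left (h : Tr H v φ) (k : ℤ) : Tr H ((k : F) • v) φ := by
  obtain ⟨m, rfl | rfl⟩ := k.eq_nat_or_neg
  · simpa using h.nsmul_left m
  · simpa using (h.nsmul_left m).neg_left

/-- Conjugation by a transvection. -/
theorem Tr.conjT {u ψ : ι → F} (hu : Tr H u ψ) (h : Tr H v φ) :
    Tr H (v + (ψ ⬝ᵥ v) • u) (φ - (φ ⬝ᵥ u) • ψ) := by
  have := h.conj hu.mem
  rwa [tv_inv, tv_mulVec, vecMul_tv, dotProduct_neg, neg_smul, ← sub_eq_add_neg] at this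

/-- The commutator of two transvections. -/
theorem Tr.comm (h : Tr H v φ) (h' : Tr H v' φ') (h0 : φ' ⬝ᵥ v = 0) :
    Tr H ((φ ⬝ᵥ v') • v) φ' := by
  have := h.conjT h'
  rw [h0, zero_smul, sub_zero] at this
  simpa using this.sub_left h'

theorem tr_single_iff {i j : ι} (hij : i ≠ j) (c : F) :
    Tr H (c • Pi.single i 1) (Pi.single j 1) ↔ SpecialLinearGroup.transvection hij c ∈ H := by
  have e : ((SpecialLinearGroup.transvection hij c : SpecialLinearGroup ι F) : Matrix ι ι F) =
      1 + vecMulVec (c • Pi.single i 1) (Pi.single j 1) := by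
    rw [SpecialLinearGroup.transvection_coe, smul_vecMulVec, ← single_eq_single_vecMulVec_single,
      smul_single, smul_eq_mul, mul_one]
  constructor
  · intro h
    have : SpecialLinearGroup.transvection hij c = tv _ _ h.dot := Subtype.ext e
    rw [this]; exact h.mem
  · intro h
    exact Tr.of_mem h (by simp [hij]) e

/-- If all `x_{ij}(1)` lie in `H`, the parameters `c` with `x_{ij}(c) ∈ H` form a subring. -/
def paramRing (H : Subgroup (SpecialLinearGroup ι F)) (hι : 3 ≤ Fintype.card ι)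
    (h1 : ∀ i j : ι, i ≠ j → Tr H (Pi.single i 1) (Pi.single j 1)) : Subring F where
  carrier := {c | ∀ i j : ι, i ≠ j → Tr H (c • Pi.single i 1) (Pi.single j 1)}
  mul_mem' := by
    intro a b ha hb i k hik
    obtain ⟨j, hj⟩ : ∃ j, j ∉ ({i, k} : Finset ι) := by
      by_contra h
      push Not at h
      have := Finset.card_le_card (show (Finset.univ : Finset ι) ⊆ {i, k} from fun x _ => h x)
      rw [Finset.card_pair hik, Finset.card_univ] at this
      omega
    simp only [Finset.mem_insert, Finset.mem_singleton, not_or] at hj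
    have := (ha i j (Ne.symm hj.1)).comm (hb j k hj.2) (by simp [hik])
    simpa [smul_smul, mul_comm] using this
  one_mem' := fun i j hij => by simpa using h1 i j hij
  add_mem' := fun ha hb i j hij => by rw [add_smul]; exact (ha i j hij).add_left (hb i j hij)
  zero_mem' := fun i j _ => by simpa using Tr.zero_left _
  neg_mem' := fun ha i j hij => by rw [neg_smul]; exact (ha i j hij).neg_left

theorem mem_paramRing_of {hι : 3 ≤ Fintype.card ι}
    {h1 : ∀ i j : ι, i ≠ j → Tr H (Pi.single i 1) (Pi.single j 1)} {c : F} {i j : ι}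
    (hij : i ≠ j) (h : Tr H (c • Pi.single i 1) (Pi.single j 1)) : c ∈ paramRing H hι h1 := by
  -- change the second index, then the first one
  have A : ∀ i j k : ι, i ≠ j → i ≠ k → Tr H (c • Pi.single i 1) (Pi.single j 1) →
      Tr H (c • Pi.single i 1) (Pi.single k 1) := by
    intro i j k hij hik h
    by_cases hjk : j = k
    · exact hjk ▸ h
    simpa using h.comm (h1 j k hjk) (by simp [hik])
  have B : ∀ i j k : ι, i ≠ j → k ≠ j → Tr H (c • Pi.single i 1) (Pi.single j 1) →
      Tr H (c • Pi.single k 1) (Pi.single j 1) := by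
    intro i j k hij hkj h
    by_cases hik : k = i
    · exact hik ▸ h
    simpa using (h1 k i hik).comm h (by simp [hkj])
  intro a b hab
  by_cases hib : i = b
  · subst hib
    obtain ⟨k, hk⟩ : ∃ k, k ∉ ({i, j} : Finset ι) := by
      by_contra h
      push Not at h
      have := Finset.card_le_card (show (Finset.univ : Finset ι) ⊆ {i, j} from fun x _ => h x)
      rw [Finset.card_pair hij, Finset.card_univ] at this
      omega
    simp only [Finset.mem_insert, Finset.mem_singleton, not_or] at hk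
    exact B k i a hk.1 hab (A k j i hk.2 hk.1 (B i j k hij hk.2 h))
  · exact B i b a hib hab (A i j b hij hib h)

theorem eq_top_of_paramRing {hι : 3 ≤ Fintype.card ι}
    {h1 : ∀ i j : ι, i ≠ j → Tr H (Pi.single i 1) (Pi.single j 1)}
    (h : paramRing H hι h1 = ⊤) : H = ⊤ :=
  H10.SL_eq_top_of_transvection_mem H fun i j hij c =>
    (tr_single_iff hij c).mp ((show c ∈ paramRing H hι h1 from h ▸ Subring.mem_top c) i j hij)

/-! ### The lower Jordan block -/

variable {n : ℕ}

/-- The `k`-th standard basis vector (zero if `k ≥ n`). -/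
def e (F : Type*) [Field F] (n k : ℕ) : Fin n → F := fun i => if (i : ℕ) = k then 1 else 0

theorem e_eq_single (i : Fin n) : e F n i = Pi.single i 1 := by
  ext j; simp [e, Pi.single_apply, Fin.ext_iff]

theorem e_of_le {k : ℕ} (h : n ≤ k) : e F n k = 0 := by
  ext j; have := j.2; simp [e]; omega

theorem e_dot_of_lt {k : ℕ} (h : k < n) (v : Fin n → F) : e F n k ⬝ᵥ v = v ⟨k, h⟩ := by
  have := e_eq_single (F := F) (⟨k, h⟩ : Fin n)
  simp only at this
  rw [this]; simp

theorem e_dot_e (j k : ℕ) : e F n j ⬝ᵥ e F n k = if j = k ∧ j < n then 1 else 0 := by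
  by_cases h : j < n
  · rw [e_dot_of_lt h]; simp [e, h]
  · rw [e_of_le (not_lt.mp h)]; simp [h]

theorem e_dot_e_self {j : ℕ} (h : j < n) : e F n j ⬝ᵥ e F n j = 1 := by simp [e_dot_e, h]

theorem e_dot_e_ne {j k : ℕ} (h : j ≠ k) : e F n j ⬝ᵥ e F n k = 0 := by simp [e_dot_e, h]

theorem ext_e {A B : Matrix (Fin n) (Fin n) F} (h : ∀ k < n, A *ᵥ e F n k = B *ᵥ e F n k) :
    A = B := by
  ext i j
  have := congrFun (h j j.2) i
  simpa [e_eq_single] using this

/-- The lower shift `e_k ↦ e_{k+1}`. -/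
def shift (F : Type*) [Field F] (n : ℕ) : Matrix (Fin n) (Fin n) F :=
  fun i j => if (i : ℕ) = j + 1 then 1 else 0

theorem shift_mulVec_e {k : ℕ} (hk : k < n) : shift F n *ᵥ e F n k = e F n (k + 1) := by
  rw [show k = ((⟨k, hk⟩ : Fin n) : ℕ) from rfl, e_eq_single]
  ext i; simp [shift, e]

theorem shift_mulVec_e' (k : ℕ) : shift F n *ᵥ e F n k = e F n (k + 1) := by
  by_cases hk : k < n
  · exact shift_mulVec_e hk
  · rw [e_of_le (not_lt.mp hk), e_of_le (by omega), mulVec_zero]

theorem e_vecMul_shift {k : ℕ} (hk : k + 1 < n) : e F n (k + 1) ᵥ* shift F n = e F n k := by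
  rw [show k + 1 = ((⟨k + 1, hk⟩ : Fin n) : ℕ) from rfl, e_eq_single]
  ext i; simp [shift, e, eq_comm]

theorem shift_pow_mulVec_e (j k : ℕ) : shift F n ^ j *ᵥ e F n k = e F n (k + j) := by
  induction j with
  | zero => simp
  | succ j ih => rw [pow_succ', ← mulVec_mulVec, ih, shift_mulVec_e', add_assoc]

theorem shift_pow_eq_zero : shift F n ^ n = 0 :=
  ext_e fun k _ => by rw [shift_pow_mulVec_e, e_of_le (by omega), zero_mulVec]

theorem shift_pow_ne_zero (hn : 0 < n) : shift F n ^ (n - 1) ≠ 0 := by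
  intro h
  have := shift_pow_mulVec_e (F := F) (n := n) (n - 1) 0
  rw [h, zero_mulVec, zero_add] at this
  have h2 := e_dot_e_self (F := F) (show n - 1 < n by omega)
  rw [← this] at h2
  simp at h2

/-- The lower Jordan block `1 + N`. -/
def jordan (F : Type*) [Field F] (n : ℕ) : SpecialLinearGroup (Fin n) F :=
  ⟨1 + shift F n, by
    rw [det_of_lowerTriangular]
    · simp [shift]
    · intro i j hij
      have h : i < j := hij
      have h2 : (i : ℕ) ≠ j + 1 := by have : (i : ℕ) < j := h; omega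
      simp [shift, h.ne, h2]⟩

theorem jordan_coe : (jordan F n : Matrix (Fin n) (Fin n) F) = 1 + shift F n := rfl

theorem jordan_sub_one : (jordan F n : Matrix (Fin n) (Fin n) F) - 1 = shift F n := by
  rw [jordan_coe]; abel

theorem jordan_mulVec_e (k : ℕ) :
    (jordan F n : Matrix (Fin n) (Fin n) F) *ᵥ e F n k = e F n k + e F n (k + 1) := by
  rw [jordan_coe, add_mulVec, one_mulVec, shift_mulVec_e']

theorem e_vecMul_jordan {k : ℕ} (hk : k + 1 < n) :
    e F n (k + 1) ᵥ* (jordan F n : Matrix (Fin n) (Fin n) F) = e F n (k + 1) + e F n k := by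
  rw [jordan_coe, vecMul_add, vecMul_one, e_vecMul_shift hk]

theorem jordan_regular (hn : 0 < n) :
    IsNilpotent ((jordan F n : Matrix (Fin n) (Fin n) F) - 1) ∧
      ((jordan F n : Matrix (Fin n) (Fin n) F) - 1) ^ (n - 1) ≠ 0 := by
  rw [jordan_sub_one]
  exact ⟨⟨n, shift_pow_eq_zero⟩, shift_pow_ne_zero hn⟩

theorem jordan_inv_mulVec_e_zero (hn : 0 < n) :
    (((jordan F n)⁻¹ : SpecialLinearGroup (Fin n) F) : Matrix (Fin n) (Fin n) F) *ᵥ e F n 0 =
      fun i : Fin n => (-1) ^ (i : ℕ) := by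
  have : (jordan F n : Matrix (Fin n) (Fin n) F) *ᵥ (fun i : Fin n => (-1 : F) ^ (i : ℕ)) =
      e F n 0 := by
    ext ⟨i, hi⟩
    rcases i with _ | i
    · rw [jordan_coe, add_mulVec, one_mulVec]
      simp [mulVec, dotProduct, shift, e]
    · have h1 := e_dot_of_lt hi ((jordan F n : Matrix (Fin n) (Fin n) F) *ᵥ
        (fun i : Fin n => (-1 : F) ^ (i : ℕ)))
      rw [← h1, dotProduct_mulVec, e_vecMul_jordan hi, add_dotProduct, e_dot_of_lt hi,
        e_dot_of_lt (show i < n by omega)]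
      simp [e, pow_succ]
  rw [← this, mulVec_mulVec, coe_inv_mul, one_mulVec]

/-- Vectors with integral entries. -/
def Integral (w : ι → F) : Prop := ∀ i, ∃ k : ℤ, w i = k

/-- `φ` is full: all integral transvections with axis `φ` lie in `H`. -/
def Full (H : Subgroup (SpecialLinearGroup ι F)) (φ : ι → F) : Prop :=
  ∀ w, Integral w → φ ⬝ᵥ w = 0 → Tr H w φ

theorem Full.vecMul {g : SpecialLinearGroup ι F} (hg : g ∈ H)
    (hL : ∀ w, Integral w → Integral ((g : Matrix ι ι F) *ᵥ w)) (h : Full H φ) :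
    Full H (φ ᵥ* (g : Matrix ι ι F)) := fun w hw h0 =>
  Tr.conj' hg (h _ (hL w hw) (by rwa [dotProduct_mulVec]))

theorem integral_e (k : ℕ) : Integral (e F n k) := fun i => by
  by_cases h : (i : ℕ) = k
  · exact ⟨1, by simp [e, h]⟩
  · exact ⟨0, by simp [e, h]⟩

theorem Integral.add {w w' : ι → F} (h : Integral w) (h' : Integral w') : Integral (w + w') :=
  fun i => by
    obtain ⟨a, ha⟩ := h i; obtain ⟨b, hb⟩ := h' i
    exact ⟨a + b, by simp [ha, hb]⟩

theorem Integral.zsmul {w : ι → F} (h : Integral w) (k : ℤ) : Integral ((k : F) • w) :=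
  fun i => by
    obtain ⟨a, ha⟩ := h i
    exact ⟨k * a, by simp [ha]⟩

theorem integral_jordan {w : Fin n → F} (h : Integral w) :
    Integral ((jordan F n : Matrix (Fin n) (Fin n) F) *ᵥ w) := by
  rw [jordan_coe, add_mulVec, one_mulVec]
  refine h.add fun ⟨i, hi⟩ => ?_
  rcases i with _ | i
  · exact ⟨0, by simp [mulVec, dotProduct, shift]⟩
  · rw [← e_dot_of_lt hi (shift F n *ᵥ w), dotProduct_mulVec, e_vecMul_shift hi,
      e_dot_of_lt (by omega)]
    exact h _

/-- **Key lemma.** The lower Jordan block and the corner transvection `x_{1n}(1)` generate a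
subgroup containing all elementary transvections `x_{ij}(1)`. -/
theorem key {H : Subgroup (SpecialLinearGroup (Fin n) F)} (hn : 3 ≤ n) (hC : jordan F n ∈ H)
    (ht : Tr H (e F n 0) (e F n (n - 1))) (i j : Fin n) (hij : i ≠ j) :
    Tr H (Pi.single i 1) (Pi.single j 1) := by
  have hlast : n - 1 < n := by omega
  have step : ∀ k, k + 1 < n - 1 → Tr H (e F n k) (e F n (n - 1)) →
      Tr H (e F n (k + 1)) (e F n (n - 1)) := by
    intro k hk h
    have h1 := ((h.conj hC).comm ht (by
      rw [jordan_mulVec_e, dotProduct_add, e_dot_e_ne (by omega), e_dot_e_ne (by omega),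
        add_zero]))
    rw [← dotProduct_mulVec, jordan_inv_mulVec_e_zero (by omega), e_dot_of_lt hlast,
      jordan_mulVec_e] at h1
    have h2 : Tr H (e F n k + e F n (k + 1)) (e F n (n - 1)) := by
      rcases neg_one_pow_eq_or F (n - 1) with h3 | h3
      · simpa [h3] using h1
      · simpa [h3, add_comm] using h1.neg_left
    simpa using h2.sub_left h
  have hA : ∀ k, k < n - 1 → Tr H (e F n k) (e F n (n - 1)) := by
    intro k
    induction k with
    | zero => exact fun _ => ht
    | succ k ih => exact fun hk => step k hk (ih (by omega))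
  have hfull0 : Full H (e F n (n - 1)) := by
    intro w hw h0
    rw [e_dot_of_lt hlast] at h0
    have : w = ∑ i : Fin n, w i • e F n i := by
      ext j; simp [e_eq_single, Finset.sum_apply, Pi.single_apply]
    rw [this]
    refine Finset.sum_induction _ (fun x => Tr H x (e F n (n - 1))) (fun a b => Tr.add_left)
      (Tr.zero_left _) fun i _ => ?_
    by_cases hi : (i : ℕ) < n - 1
    · obtain ⟨k, hk⟩ := hw i
      rw [hk]; exact (hA i hi).zsmul_left k
    · have : i = ⟨n - 1, hlast⟩ := Fin.ext (by have := i.2; simp; omega)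
      rw [this, h0, zero_smul]; exact Tr.zero_left _
  have hdown : ∀ k, k + 1 < n → Full H (e F n (k + 1)) → Full H (e F n k) := by
    intro k hk h
    have h1 := h.vecMul hC fun w => integral_jordan
    rw [e_vecMul_jordan hk] at h1
    have h2 : Tr H (-e F n k) (e F n (k + 1)) :=
      (h _ (integral_e k) (e_dot_e_ne (by omega))).neg_left
    have h3 := h1.vecMul h2.mem (fun w hw => by
      rw [tv_mulVec, e_dot_of_lt hk]
      obtain ⟨a, ha⟩ := hw ⟨k + 1, hk⟩
      rw [ha, smul_neg, ← neg_smul, ← Int.cast_neg]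
      exact hw.add ((integral_e k).zsmul _))
    rw [vecMul_tv, dotProduct_neg, add_dotProduct, e_dot_e_ne (by omega),
      e_dot_e_self (by omega)] at h3
    simpa using h3
  have hfull : ∀ d k, k + d = n - 1 → Full H (e F n k) := by
    intro d
    induction d with
    | zero => intro k hk; rw [show k = n - 1 by omega]; exact hfull0
    | succ d ih => intro k hk; exact hdown k (by omega) (ih (k + 1) (by omega))
  rw [← e_eq_single, ← e_eq_single]
  exact hfull (n - 1 - j) j (by have := j.2; omega) _ (integral_e _)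
    (e_dot_e_ne fun h => hij (Fin.ext h.symm))

/-- Conjugates of the Jordan block are regular unipotent. -/
theorem regular_of_conj {v P : Matrix (Fin n) (Fin n) F} (hn : 0 < n) (hP : P.det ≠ 0)
    (h : v * P = P * (jordan F n : Matrix (Fin n) (Fin n) F)) :
    IsNilpotent (v - 1) ∧ (v - 1) ^ (n - 1) ≠ 0 := by
  have hu : IsUnit P := (isUnit_iff_isUnit_det P).mpr (isUnit_iff_ne_zero.mpr hP)
  have h1 : (v - 1) * P = P * shift F n := by
    rw [sub_mul, h, jordan_coe, mul_add, mul_one, one_mul]; abel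
  have h2 : ∀ k, (v - 1) ^ k * P = P * shift F n ^ k := by
    intro k
    induction k with
    | zero => simp
    | succ k ih => rw [pow_succ', mul_assoc, ih, ← mul_assoc, h1, mul_assoc, ← pow_succ']
  refine ⟨⟨n, ?_⟩, fun h3 => ?_⟩
  · have := h2 n
    rw [shift_pow_eq_zero, mul_zero] at this
    exact hu.mul_left_eq_zero.mp this
  · have := h2 (n - 1)
    rw [h3, zero_mul] at this
    exact shift_pow_ne_zero hn (hu.mul_right_eq_zero.mp this.symm)

/-- A finite field is generated as a ring by one element different from `1`. -/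
theorem exists_generator [Finite F] : ∃ a : F, a ≠ 1 ∧ ∀ R : Subring F, a ∈ R → R = ⊤ := by
  obtain ⟨z, hz⟩ := IsCyclic.exists_monoid_generator (α := Fˣ)
  have key : ∀ R : Subring F, (z : F) ∈ R → R = ⊤ := by
    intro R hR
    refine eq_top_iff.mpr fun x _ => ?_
    by_cases hx : x = 0
    · exact hx ▸ R.zero_mem
    obtain ⟨k, hk⟩ := hz (Units.mk0 x hx)
    have : x = (z : F) ^ k := by
      rw [← Units.val_pow_eq_pow_val]; simp only at hk; rw [hk]; rfl
    exact this ▸ R.pow_mem hR k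
  by_cases h1 : (z : F) = 1
  · exact ⟨0, zero_ne_one, fun R _ => key R (h1 ▸ R.one_mem)⟩
  · exact ⟨z, h1, key⟩

end H64.SLGen
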