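import Mathlib
import Cfsg.Agent.Lib.SLGen.Basic

/-!
Two regular unipotent generators of `SL_n(F)`, `n ≥ 4`.
-/

set_option autoImplicit false

namespace H64.SLGen

open Matrix

variable {F : Type*} [Field F]

theorem rot_mulVec_e_succ {n k : ℕ} (hk : k + 1 < n + 1) :
    (finRotate (n + 1)).permMatrix F *ᵥ e F (n + 1) (k + 1) = e F (n + 1) k := by
  rw [permMatrix_mulVec]
  ext i
  by_cases hi : i = Fin.last n
  · subst hi; simp [e]; omega
  · simp only [Function.comp, e, coe_finRotate_of_ne_last hi]; simp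

theorem rot_mulVec_e_zero {n : ℕ} :
    (finRotate (n + 1)).permMatrix F *ᵥ e F (n + 1) 0 = e F (n + 1) n := by
  rw [permMatrix_mulVec]
  ext i
  by_cases hi : i = Fin.last n
  · subst hi; simp [e]
  · have : (i : ℕ) ≠ n := fun h => hi (Fin.ext h)
    simp only [Function.comp, e, coe_finRotate_of_ne_last hi]; simp [this]

/-- From `g = t h` with `t, h` commuting, `t ^ p = 1`, `h ^ k = 1`, `p ∤ k`: `t, h ∈ H`. -/
theorem mem_of_mul_mem {G : Type*} [Group G] {H : Subgroup G} {t h : G} (hc : Commute t h)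
    {p k : ℕ} (hpk : Nat.Coprime k p) (ht : t ^ p = 1) (hh : h ^ k = 1) (hg : t * h ∈ H) :
    t ∈ H ∧ h ∈ H := by
  have h1 : t ^ k ∈ H := by
    have := H.pow_mem hg k
    rwa [hc.mul_pow, hh, mul_one] at this
  have h2 : t ∈ H := by
    have h3 : (k : ℤ) * Nat.gcdA k p + p * Nat.gcdB k p = 1 := by
      rw [← Nat.gcd_eq_gcd_ab, hpk]; rfl
    have : t = (t ^ k) ^ Nat.gcdA k p := by
      conv_lhs => rw [← zpow_one t, ← h3]
      rw [_root_.zpow_add, _root_.zpow_mul, _root_.zpow_mul, _root_.zpow_natCast,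
        _root_.zpow_natCast, ht, _root_.one_zpow, mul_one]
    rw [this]; exact H.zpow_mem h1 _
  exact ⟨h2, by simpa using H.mul_mem (H.inv_mem h2) hg⟩

theorem tv_pow_char {ι : Type*} [Fintype ι] [DecidableEq ι] (p : ℕ) [CharP F p] (v φ : ι → F)
    (h : φ ⬝ᵥ v = 0) : tv v φ h ^ p = 1 := by
  have : ∀ k : ℕ, ((tv v φ h ^ k : SpecialLinearGroup ι F) : Matrix ι ι F) =
      1 + (k : F) • vecMulVec v φ := by
    intro k
    induction k with
    | zero => simp
    | succ k ih =>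
      rw [pow_succ, Matrix.SpecialLinearGroup.coe_mul, ih, tv_coe]
      simp only [mul_add, add_mul, mul_one, one_mul, smul_mul_assoc, vv_mul, h, zero_smul,
        smul_zero, Nat.cast_succ]
      module
  exact Subtype.ext (by rw [this]; simp)

theorem exists_four_aux (m : ℕ) (α τ : F) (hα : α ≠ 1) (p k : ℕ) [CharP F p]
    (hpk : Nat.Coprime k p)
    (hk : ∀ a : Matrix (Fin (m + 4)) (Fin (m + 4)) F,
      a * a * a + (2 - τ) • (a * a) + (2 - τ) • a = 0 → (1 + a) ^ k = 1) :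
    ∃ (v : SpecialLinearGroup (Fin (m + 4)) F) (P : Matrix (Fin (m + 4)) (Fin (m + 4)) F),
      P.det = 1 - α ∧
      v.1 * P = P * (jordan F (m + 4) : Matrix (Fin (m + 4)) (Fin (m + 4)) F) ∧
      ∀ H : Subgroup (SpecialLinearGroup (Fin (m + 4)) F), jordan F (m + 4) ∈ H → v ∈ H →
        ∃ h1 : ∀ i j : Fin (m + 4), i ≠ j → Tr H (Pi.single i 1) (Pi.single j 1),
          α ∈ paramRing H (by simp) h1 := by
  have hα' : α - 1 ≠ 0 := sub_ne_zero.mpr hα
  set E : ℕ → Fin (m + 4) → F := e F (m + 4) with hE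
  have d1 : ∀ {j}, j < m + 4 → E j ⬝ᵥ E j = 1 := fun h => e_dot_e_self h
  have d0 : ∀ {j k}, j ≠ k → E j ⬝ᵥ E k = 0 := fun h => e_dot_e_ne h
  obtain ⟨δ, hδ⟩ : ∃ δ, δ = τ - α := ⟨_, rfl⟩
  obtain ⟨γ, hγ⟩ : ∃ γ, γ = 1 - α * δ := ⟨_, rfl⟩
  obtain ⟨y', hy'⟩ : ∃ y', y' = 2 - α - γ - δ := ⟨_, rfl⟩
  obtain ⟨w1, hw1⟩ : ∃ w1, w1 = y' • E m + (α - 1) • E (m + 1) - E (m + 2) := ⟨_, rfl⟩
  obtain ⟨w2, hw2⟩ : ∃ w2, w2 = (α - 1)⁻¹ • E 0 - (y' * (1 - γ - δ) * (α - 1)⁻¹) • E m +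
      γ • E (m + 1) + (δ - 1) • E (m + 2) := ⟨_, rfl⟩
  obtain ⟨b, hb⟩ : ∃ b, b = y' • E m + (y' + α - 1) • E (m + 1) + (α - 1) • E (m + 2) -
      E (m + 3) := ⟨_, rfl⟩
  have a11 : E (m + 1) ⬝ᵥ w1 = α - 1 := by
    simp [hw1, d1, d0, dotProduct_add, dotProduct_sub]
  have a21 : E (m + 2) ⬝ᵥ w1 = -1 := by
    simp [hw1, d1, d0, dotProduct_add, dotProduct_sub]
  have a31 : E (m + 3) ⬝ᵥ w1 = 0 := by
    simp [hw1, d0, dotProduct_add, dotProduct_sub]
  have a12 : E (m + 1) ⬝ᵥ w2 = γ := by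
    simp [hw2, d1, d0, dotProduct_add, dotProduct_sub]
  have a22 : E (m + 2) ⬝ᵥ w2 = δ - 1 := by
    simp [hw2, d1, d0, dotProduct_add, dotProduct_sub]
  have a32 : E (m + 3) ⬝ᵥ w2 = 0 := by
    simp [hw2, d0, dotProduct_add, dotProduct_sub]
  have b2 : E (m + 2) ⬝ᵥ b = α - 1 := by
    simp [hb, d1, d0, dotProduct_add, dotProduct_sub]
  have b3 : E (m + 3) ⬝ᵥ b = -1 := by
    simp [hb, d1, d0, dotProduct_add, dotProduct_sub]
  obtain ⟨a, ha⟩ : ∃ a, a = vecMulVec w1 (E (m + 1)) + vecMulVec w2 (E (m + 2)) := ⟨_, rfl⟩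
  have hord : (1 + a) ^ k = 1 := by
    apply hk
    simp only [ha, mul_add, add_mul, vv_mul, a11, a21, a12, a22, smul_mul_assoc, smul_add]
    subst hγ hδ
    module
  have ht0 : E (m + 3) ⬝ᵥ E 0 = 0 := d0 (by omega)
  set C : Matrix (Fin (m + 4)) (Fin (m + 4)) F := (jordan F (m + 4)).1 with hC
  have hCe : ∀ j, C *ᵥ E j = E j + E (j + 1) := jordan_mulVec_e
  have hE4 : E (m + 4) = 0 := e_of_le le_rfl
  obtain ⟨V, hV⟩ : ∃ V, V = C * (1 + vecMulVec (E 0) (E (m + 3))) * (1 + a) := ⟨_, rfl⟩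
  have hVe : ∀ w, V *ᵥ w = C *ᵥ (w + (E (m + 1) ⬝ᵥ w) • w1 + (E (m + 2) ⬝ᵥ w) • w2 +
      (E (m + 3) ⬝ᵥ w) • E 0) := by
    intro w
    rw [hV, ← mulVec_mulVec, ← mulVec_mulVec, ha]
    simp only [add_mulVec, one_mulVec, vv_mulVec, dotProduct_add, dotProduct_smul, a31, a32,
      smul_zero, add_zero, add_assoc]
  have V0 : ∀ j ≤ m, V *ᵥ E j = E j + E (j + 1) := by
    intro j hj
    rw [hVe, d0 (by omega), d0 (by omega), d0 (by omega), ← hCe]; simp
  have V1 : V *ᵥ E (m + 1) = E (m + 1) + b := by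
    rw [hVe, d1 (by omega), d0 (by omega), d0 (by omega), hw1, hb]
    simp only [mulVec_add, mulVec_sub, mulVec_smul, hCe, zero_smul, mulVec_zero]
    module
  have V2 : V *ᵥ E (m + 2) = C *ᵥ (E (m + 2) + w2) := by
    rw [hVe, d1 (by omega), d0 (by omega), d0 (by omega)]; simp
  have V3 : V *ᵥ E (m + 3) = E (m + 3) + E 0 + E 1 := by
    rw [hVe, d1 (by omega), d0 (by omega), d0 (by omega)]
    simp only [mulVec_add, mulVec_smul, hCe, zero_smul, mulVec_zero, hE4]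
    module
  have Vb : V *ᵥ b = b := by
    conv_lhs => rw [hb]
    simp only [mulVec_add, mulVec_sub, mulVec_smul, V0 m le_rfl, V1, V2, V3, hCe, hw2, hb]
    subst hy' hγ hδ
    match_scalars <;> field_simp <;> ring
  obtain ⟨P, hP⟩ : ∃ P, P = -((1 + vecMulVec (-E 0) (E (m + 3))) *
      (1 + vecMulVec (b - E 0 - E (m + 2)) (E (m + 2))) * (finRotate (m + 4)).permMatrix F) :=
    ⟨_, rfl⟩
  have hdet : P.det = 1 - α := by
    rw [hP, det_neg, det_mul, det_mul, det_one_add_vecMulVec, det_one_add_vecMulVec,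
      det_permutation, sign_finRotate]
    simp only [dotProduct_neg, dotProduct_sub, ht0, b2, d0 (show m + 2 ≠ 0 by omega),
      d1 (show m + 2 < m + 4 by omega), Fintype.card_fin, Nat.add_succ_sub_one]
    push_cast
    have : (-1 : F) ^ (m + 4) * (-1) ^ (m + 3) = -1 := by
      rw [← pow_add, show m + 4 + (m + 3) = 2 * (m + 3) + 1 by ring, pow_succ, pow_mul]; simp
    linear_combination (α - 1) * this
  have P0 : P *ᵥ E 0 = E 0 - E (m + 3) := by
    rw [hP, neg_mulVec, ← mulVec_mulVec, ← mulVec_mulVec, hE, rot_mulVec_e_zero, ← hE]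
    simp only [add_mulVec, one_mulVec, vv_mulVec, d0 (show m + 2 ≠ m + 3 by omega), zero_smul,
      add_zero, d1 (show m + 3 < m + 4 by omega)]
    module
  have P1 : ∀ j ≤ m + 1, P *ᵥ E (j + 1) = -E j := by
    intro j hj
    rw [hP, neg_mulVec, ← mulVec_mulVec, ← mulVec_mulVec, hE, rot_mulVec_e_succ (by omega), ← hE]
    simp only [add_mulVec, one_mulVec, vv_mulVec, d0 (show m + 2 ≠ j by omega), zero_smul,
      add_zero, d0 (show m + 3 ≠ j by omega)]
  have P3 : P *ᵥ E (m + 3) = -b := by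
    rw [hP, neg_mulVec, ← mulVec_mulVec, ← mulVec_mulVec, hE, rot_mulVec_e_succ (by omega), ← hE]
    simp only [add_mulVec, one_mulVec, vv_mulVec, d1 (show m + 2 < m + 4 by omega), one_smul,
      dotProduct_add, dotProduct_sub, b3, ht0, d0 (show m + 3 ≠ m + 2 by omega)]
    module
  have hVP : V * P = P * C := by
    refine ext_e fun j hj => ?_
    rw [← hE, ← mulVec_mulVec, ← mulVec_mulVec, hCe, mulVec_add]
    rcases j with _ | j
    · rw [P0, P1 0 (by omega), mulVec_sub, V0 0 (by omega), V3]; module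
    by_cases h1 : j ≤ m
    · rw [P1 j (by omega), P1 (j + 1) (by omega), mulVec_neg, V0 j h1]; module
    by_cases h2 : j = m + 1
    · subst h2
      rw [P1 _ le_rfl, P3, mulVec_neg, V1]; module
    · obtain rfl : j = m + 2 := by omega
      rw [P3, hE4, mulVec_neg, Vb]; simp
  have hP0 : P.det ≠ 0 := by rw [hdet]; exact sub_ne_zero.mpr hα.symm
  have hVdet : V.det = 1 := by
    have := congrArg det hVP
    rw [det_mul, det_mul, hC, (jordan F (m + 4)).2, mul_one] at this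
    exact mul_right_cancel₀ hP0 (by rw [this, one_mul])
  have hadet : (1 + a).det = 1 := by
    rw [hV, det_mul, det_mul, hC, (jordan F (m + 4)).2, det_one_add_vecMulVec, ht0] at hVdet
    simpa using hVdet
  refine ⟨⟨V, hVdet⟩, P, hdet, hVP, fun H hCH hVH => ?_⟩
  let t := tv (E 0) (E (m + 3)) ht0
  let h : SpecialLinearGroup (Fin (m + 4)) F := ⟨1 + a, hadet⟩
  have hth : t * h ∈ H := by
    have := H.mul_mem (H.inv_mem hCH) hVH
    have e1 : (⟨V, hVdet⟩ : SpecialLinearGroup (Fin (m + 4)) F) = jordan F (m + 4) * (t * h) :=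
      Subtype.ext (hV.trans (mul_assoc _ _ _))
    rwa [e1, inv_mul_cancel_left] at this
  have hc : Commute t h := by
    refine Subtype.ext ?_
    change (1 + vecMulVec (E 0) (E (m + 3))) * (1 + a) = (1 + a) * (1 + vecMulVec (E 0) (E (m + 3)))
    simp only [ha, mul_add, add_mul, vv_mul, a31, a32, mul_one, one_mul, zero_smul,
      d0 (show m + 1 ≠ 0 by omega), d0 (show m + 2 ≠ 0 by omega)]
    abel
  obtain ⟨htH, hhH⟩ := mem_of_mul_mem hc hpk (tv_pow_char p _ _ _)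
    (Subtype.ext (by rw [Matrix.SpecialLinearGroup.coe_pow]; exact hord)) hth
  have h1 := key (n := m + 4) (by omega) hCH ⟨ht0, htH⟩
  refine ⟨h1, ?_⟩
  have h1' : ∀ i j : ℕ, i < m + 4 → j < m + 4 → i ≠ j → Tr H (E i) (E j) := by
    intro i j hi hj hij
    have := h1 ⟨i, hi⟩ ⟨j, hj⟩ (by simpa using hij)
    rwa [← e_eq_single, ← e_eq_single] at this
  -- conjugate `x_{m+1,m+3}(1)` by `h`
  have h2 : Tr H (E (m + 1) + w1) (E (m + 3)) := by
    have h3 := (h1' (m + 1) (m + 3) (by omega) (by omega) (by omega)).conj hhH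
    have e1 : h.1 *ᵥ E (m + 1) = E (m + 1) + w1 := by
      change (1 + a) *ᵥ _ = _
      simp [ha, add_mulVec, vv_mulVec, d1, d0]
    have e2 : E (m + 3) ᵥ* h.1 = E (m + 3) := by
      change _ ᵥ* (1 + a) = _
      simp [ha, vecMul_add, vecMul_vecMulVec, a31, a32]
    have e3 : E (m + 3) ᵥ* (h⁻¹).1 = E (m + 3) := by
      conv_lhs => rw [← e2]
      rw [vecMul_vecMul, coe_mul_inv, vecMul_one]
    rwa [e1, e3] at h3
  have h4 := (h1' 0 (m + 1) (by omega) (by omega) (by omega)).comm h2 ht0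
  rw [dotProduct_add, d1 (by omega), a11, add_sub_cancel] at h4
  refine mem_paramRing_of (i := ⟨0, by omega⟩) (j := ⟨m + 3, by omega⟩) (by simp) ?_
  rwa [← e_eq_single, ← e_eq_single]

/-- For `n ≥ 4` and `α ≠ 1`: a conjugate `v = P J P⁻¹`, `det P = 1 - α`, of the Jordan block `J`
such that `⟨J, v⟩` contains all `x_{ij}(1)` and `x_{ij}(α)`. -/
theorem exists_four [Finite F] (m : ℕ) (α : F) (hα : α ≠ 1) :
    ∃ (v : SpecialLinearGroup (Fin (m + 4)) F) (P : Matrix (Fin (m + 4)) (Fin (m + 4)) F),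
      P.det = 1 - α ∧
      v.1 * P = P * (jordan F (m + 4) : Matrix (Fin (m + 4)) (Fin (m + 4)) F) ∧
      ∀ H : Subgroup (SpecialLinearGroup (Fin (m + 4)) F), jordan F (m + 4) ∈ H → v ∈ H →
        ∃ h1 : ∀ i j : Fin (m + 4), i ≠ j → Tr H (Pi.single i 1) (Pi.single j 1),
          α ∈ paramRing H (by simp) h1 := by
  obtain ⟨p, hp⟩ := CharP.exists F
  have hpp : p.Prime := (CharP.char_is_prime F p)
  by_cases h3 : p = 3
  · refine exists_four_aux m α 0 hα p 4 (by subst h3; norm_num) fun a ha => ?_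
    have : (1 + a) ^ 4 = 1 + (a + 2) * (a * a * a + (2 - 0 : F) • (a * a) + (2 - 0 : F) • a) := by
      simp only [sub_zero, two_smul]; noncomm_ring
    rw [this, ha]; simp
  · refine exists_four_aux m α (-1) hα p 3
      ((Nat.coprime_primes Nat.prime_three hpp).mpr (Ne.symm h3)) fun a ha => ?_
    have : (1 + a) ^ 3 = 1 + (a * a * a + (2 - (-1) : F) • (a * a) + (2 - (-1) : F) • a) := by
      rw [show (2 - (-1) : F) = 1 + 1 + 1 by norm_num]
      simp only [add_smul, one_smul]; noncomm_ring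
    rw [this, ha]; simp

end H64.SLGen
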